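import Groth.Agent.SBStableLib.Birat
import Groth.Agent.SBAmitsurLib.Birational
import Groth.Agent.PicPnLib.BaseChange
import Groth.Agent.GenusZeroLib.PSmooth

/-! Stable birationality of Severi–Brauer varieties. -/

set_option autoImplicit false
set_option linter.style.haveILetI false
set_option maxHeartbeats 1000000
universe u

noncomputable section

open CategoryTheory CategoryTheory.Limits AlgebraicGeometry TopologicalSpace
open MvPolynomial (X C)
open scoped TensorProduct

namespace SBStable

variable (k : Type u) [Field k]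

theorem projSplitting (m : ℕ) (L : Type u) [Field L] [Algebra k L] :
    Nonempty (BrSev.Splitting (CohB1.ProjSpace.toSpec m k) L m) := by
  obtain ⟨qk, hqk, -⟩ := PicPnLib.exists_map m k
  obtain ⟨qL, hqL, -⟩ := PicPnLib.exists_map m L
  let a := Spec.map (CommRingCat.ofHom (algebraMap k L))
  have hw : qL ≫ CohB1.ProjSpace.toSpec m (ULift.{u} ℤ) =
      (CohB1.ProjSpace.toSpec m L ≫ a) ≫ specULiftZIsTerminal.from _ := by
    rw [hqL.w, Category.assoc]
    exact congrArg _ (specULiftZIsTerminal.hom_ext _ _)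
  let l := hqk.lift qL (CohB1.ProjSpace.toSpec m L ≫ a) hw
  have sq : IsPullback l (CohB1.ProjSpace.toSpec m L) (CohB1.ProjSpace.toSpec m k) a := by
    refine IsPullback.of_right ?_ (hqk.lift_snd _ _ _) hqk
    rw [hqk.lift_fst, show a ≫ specULiftZIsTerminal.from _ = specULiftZIsTerminal.from _ from
      specULiftZIsTerminal.hom_ext _ _]
    exact hqL
  exact ⟨⟨sq.isoPullback.symm, by rw [Iso.symm_hom, Iso.inv_comp_eq]; exact sq.isoPullback_hom_snd.symm⟩⟩

/-- Schemes split over every algebraically closed field are geometrically integral. -/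
theorem geometricallyIntegral_of_splitting {Z : Scheme.{u}} (p : Z ⟶ Spec (CommRingCat.of k)) (m : ℕ)
    (h : ∀ (L : Type u) [Field L] [Algebra k L] [IsAlgClosed L], Nonempty (BrSev.Splitting p L m)) :
    GeometricallyIntegral p := by
  refine ⟨fun L _ y P fst snd hP => ?_⟩
  letI : Algebra k L := (Spec.preimage y).hom.toAlgebra
  have hy : y = Spec.map (CommRingCat.ofHom (algebraMap k L)) := (Spec.map_preimage y).symm
  have hP : IsPullback fst snd p (Spec.map (CommRingCat.ofHom (algebraMap k L))) := hy ▸ hP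
  haveI : IsIntegral (BrSev.bc p L) := by
    let M := AlgebraicClosure L
    obtain ⟨e⟩ := h M
    let i : BrSev.bc (BrSev.bcTo p L) M ≅ BrSev.bc p M :=
      pullbackLeftPullbackSndIso p _ _ ≪≫ pullback.congrHom rfl (by
        rw [← Spec.map_comp, ← CommRingCat.ofHom_comp, ← IsScalarTower.algebraMap_eq])
    exact SBAmitsur.isIntegral_of_splitting (f := BrSev.bcTo p L) (K := M) (m := m)
      ⟨i ≪≫ e.iso, by
        rw [Iso.trans_hom, Category.assoc, e.comm]
        show i.hom ≫ pullback.snd _ _ = pullback.snd _ _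
        simp only [i, Iso.trans_hom, Category.assoc, pullback.congrHom_hom]
        refine (congrArg _ ((pullback.lift_snd _ _ _).trans (Category.comp_id _))).trans ?_
        exact pullbackLeftPullbackSndIso_hom_snd p _ _⟩
  haveI : Nonempty P := ⟨hP.isoPullback.inv (Classical.arbitrary (BrSev.bc p L))⟩
  exact isIntegral_of_isOpenImmersion hP.isoPullback.hom

theorem geometricallyIntegral_projSpace (m : ℕ) : GeometricallyIntegral (CohB1.ProjSpace.toSpec m k) :=
  geometricallyIntegral_of_splitting k _ m fun L _ _ _ => projSplitting k m L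

/-- Affine space. -/
abbrev aff (a : ℕ) : Spec (CommRingCat.of (MvPolynomial (Fin a) k)) ⟶ Spec (CommRingCat.of k) :=
  Spec.map (CommRingCat.ofHom (algebraMap k (MvPolynomial (Fin a) k)))

theorem affine_birationalOver_projSpace (a : ℕ) :
    Scheme.BirationalOver (aff k a) (CohB1.ProjSpace.toSpec a k) := by
  let e := RingEquiv.ofBijective _ (GenusZeroLib.chartPoly_bijective a k 0)
  let j : Spec (CommRingCat.of (MvPolynomial (Fin a) k)) ⟶ CohB1.ProjSpace a k :=
    Spec.map e.toCommRingCatIso.inv ≫ Proj.awayι (CohB1.polyGrading a k) (X 0 : MvPolynomial (Fin (a + 1)) k)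
      (MvPolynomial.isHomogeneous_X k 0) one_pos
  haveI : IsIntegral (CohB1.ProjSpace a k) := PicPnLib.isIntegral_projSpace a k
  haveI : IsOpenImmersion j := inferInstanceAs (IsOpenImmersion (Spec.map e.toCommRingCatIso.inv ≫ Proj.awayι
    (CohB1.polyGrading a k) (X 0 : MvPolynomial (Fin (a + 1)) k) (MvPolynomial.isHomogeneous_X k 0) one_pos))
  have hd : DenseRange j := j.isOpenEmbedding.isOpen_range.dense (Set.range_nonempty j)
  have hj : j ≫ CohB1.ProjSpace.toSpec a k = aff k a := by
    simp only [j, Category.assoc]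
    change _ ≫ Proj.awayι _ _ _ _ ≫ Proj.toSpecZero (CohB1.polyGrading a k) ≫
      Spec.map (CommRingCat.ofHom (algebraMap k (CohB1.polyGrading a k 0))) = _
    rw [Proj.awayι_toSpecZero_assoc, ← Spec.map_comp, ← Spec.map_comp]
    congr 1
    refine CommRingCat.hom_ext (RingHom.ext fun r => ?_)
    refine e.injective (Eq.trans (e.apply_symm_apply _) ?_)
    exact (MvPolynomial.eval₂Hom_C _ _ r).symm
  exact hj ▸ birationalOver_of_openImmersion j hd _

theorem affine_prod (a b : ℕ) :
    Scheme.BirationalOver (pullback.fst (aff k a) (aff k b) ≫ aff k a) (aff k (a + b)) := by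
  let e : MvPolynomial (Fin a) k ⊗[k] MvPolynomial (Fin b) k ≃ₐ[k] MvPolynomial (Fin (a + b)) k :=
    (MvPolynomial.tensorEquivSum k (Fin a) (Fin b) k).trans (MvPolynomial.renameEquiv k finSumFinEquiv)
  refine birationalOver_of_iso (pullbackSpecIso k _ _ ≪≫ Scheme.Spec.mapIso e.symm.toRingEquiv.toCommRingCatIso.op) ?_
  rw [← cancel_epi (pullbackSpecIso k (MvPolynomial (Fin a) k) (MvPolynomial (Fin b) k)).inv]
  simp only [Iso.trans_hom, Category.assoc, Iso.inv_hom_id_assoc, pullbackSpecIso_inv_fst_assoc]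
  show Spec.map _ ≫ Spec.map _ = Spec.map _ ≫ Spec.map _
  rw [← Spec.map_comp, ← Spec.map_comp]
  congr 1
  ext r
  exact e.symm.commutes r

variable {k}

local notation "S" => Spec (CommRingCat.of k)

theorem birationalOver_prod_left {X W W' : Scheme.{u}} (f : X ⟶ S) {g : W ⟶ S} {g' : W' ⟶ S}
    (h : Scheme.BirationalOver g g') : Scheme.BirationalOver (pullback.fst f g ≫ f) (pullback.fst f g' ≫ f) := by
  have hc : ∀ {V : Scheme.{u}} (v : V ⟶ S),
      Scheme.BirationalOver (pullback.fst f v ≫ f) (pullback.fst v f ≫ v) := fun v =>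
    birationalOver_of_iso (pullbackSymmetry f v) (by rw [pullbackSymmetry_hom_comp_fst_assoc, pullback.condition])
  exact (hc g).trans ((birationalOver_baseChange h f).trans (hc g').symm)

theorem birationalOver_assoc {X V W : Scheme.{u}} (f : X ⟶ S) (v : V ⟶ S) (w : W ⟶ S) :
    Scheme.BirationalOver (pullback.fst (pullback.fst f v ≫ f) w ≫ pullback.fst f v ≫ f)
      (pullback.fst f (pullback.fst v w ≫ v) ≫ f) := by
  let h : pullback (pullback.fst f v ≫ f) w ⟶ pullback v w :=
    pullback.lift (pullback.fst _ _ ≫ pullback.snd f v) (pullback.snd _ _)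
      (by rw [Category.assoc, ← pullback.condition (f := f) (g := v)]; exact pullback.condition)
  have h1 : h ≫ pullback.fst v w = pullback.fst _ _ ≫ pullback.snd f v := pullback.lift_fst _ _ _
  have h2 : h ≫ pullback.snd v w = pullback.snd _ _ := pullback.lift_snd _ _ _
  have sqA : IsPullback (pullback.fst (pullback.fst f v ≫ f) w) (pullback.snd _ _) (pullback.snd f v ≫ v) w :=
    pullback.condition (f := f) (g := v) ▸ IsPullback.of_hasPullback (pullback.fst f v ≫ f) w
  have top : IsPullback h (pullback.fst (pullback.fst f v ≫ f) w) (pullback.fst v w) (pullback.snd f v) :=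
    IsPullback.of_right (by rw [h2]; exact sqA.flip) h1 (IsPullback.of_hasPullback v w).flip
  have sq := top.flip.paste_horiz (IsPullback.of_hasPullback f v)
  refine birationalOver_of_iso sq.isoPullback ?_
  rw [← Category.assoc, sq.isoPullback_hom_fst, Category.assoc]

/-- Stable birationality. -/
theorem stably_birational {A : Type u} [Ring A] [Algebra k A] [Algebra.IsCentral k A] [IsSimpleRing A]
    [Module.Finite k A] {B : Type u} [Ring B] [Algebra k B] [Algebra.IsCentral k B] [IsSimpleRing B]
    [Module.Finite k B] {n m : ℕ} (hn : 0 < n) (hm : 0 < m) (hA : Module.finrank k A = n * n)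
    (hB : Module.finrank k B = m * m) {i : ℕ} (hi : CSALib.cl k B = CSALib.cl k A ^ i) {X Y : Scheme.{u}}
    (f : X ⟶ S) (g : Y ⟶ S) (hX : BrSev.IsSBOf k A (n * n - n) f) (hY : BrSev.IsSBOf k B (m * m - m) g) :
    Scheme.BirationalOver (pullback.fst f g ≫ f) (pullback.fst f (CohB1.ProjSpace.toSpec (m - 1) k) ≫ f) := by
  letI : X.Over S := ⟨f⟩
  obtain ⟨eX⟩ := SBAmitsur.exists_splitting hn hA hX (AlgebraicClosure k)
  obtain ⟨eY⟩ := SBAmitsur.exists_splitting hm hB hY (AlgebraicClosure k)
  haveI : IsIntegral X := SBAmitsur.isIntegral_of_splitting eX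
  haveI : IsProper f := SBTaut.isProper_of_splitting eX
  haveI : IsProper g := SBTaut.isProper_of_splitting eY
  haveI : IsLocallyNoetherian X := LocallyOfFiniteType.isLocallyNoetherian f
  let P := CohB1.ProjSpace.toSpec (m - 1) k
  haveI : IsProper P := SBTaut.isProper_of_splitting (projSplitting k (m - 1) (AlgebraicClosure k)).some
  haveI : GeometricallyIntegral g :=
    geometricallyIntegral_of_splitting k g (m - 1) fun L _ _ _ => SBAmitsur.exists_splitting hm hB hY L
  haveI : GeometricallyIntegral P := geometricallyIntegral_projSpace k (m - 1)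
  have hint : ∀ {V : Scheme.{u}} (v : V ⟶ S) [GeometricallyIntegral v], IsIntegral (pullback f v) := fun v _ => by
    haveI : IsIntegral (pullback v f) := inferInstance
    haveI : Nonempty ↥(pullback f v) := ⟨(pullbackSymmetry f v).inv (Classical.arbitrary _)⟩
    exact isIntegral_of_isOpenImmersion (pullbackSymmetry f v).hom
  haveI := hint g
  haveI := hint P
  letI := Curv2.stalkAlgebra (k := k) (X := X) (genericPoint X)
  obtain ⟨d, hd, ⟨φ⟩⟩ := (SBAmitsur.splits_iff hn hA hX (B := B)).2 ⟨i, hi⟩
  have hdm : d = m := by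
    have h := φ.toLinearEquiv.finrank_eq
    rw [Module.finrank_baseChange, hB, Module.finrank_matrix, Fintype.card_fin, Module.finrank_self, mul_one] at h
    exact (Nat.mul_self_inj.1 h).symm
  subst hdm
  obtain ⟨σ⟩ := id hY
  obtain ⟨e⟩ := SBSplitLib.nonempty_splitting g (⟨φ⟩ : SBAutLib.Split k B d X.functionField) hB hm σ
  obtain ⟨e'⟩ := projSplitting k (d - 1) X.functionField
  let ι := X.fromSpecStalk (genericPoint X)
  have hc : Spec.map (CommRingCat.ofHom (algebraMap k X.functionField)) = ι ≫ f := by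
    have hV := isAffineOpen_top (Spec (CommRingCat.of k))
    simp only [ι]
    rw [← Scheme.SpecMap_stalkMap_fromSpecStalk f,
      ← hV.fromSpecStalk_eq_fromSpecStalk (x := f (genericPoint X)) trivial]
    simp only [IsAffineOpen.fromSpecStalk, IsAffineOpen.fromSpec_top, Scheme.isoSpec_Spec_inv, ← Spec.map_comp]
    congr 1
    simp [Scheme.Hom.appTop]
    rfl
  refine birationalOver_of_generic f g P ι ⟨IsLocalRing.closedPoint _, Scheme.fromSpecStalk_closedPoint⟩
    (pullback.congrHom rfl hc.symm ≪≫ e.iso ≪≫ e'.iso.symm ≪≫ pullback.congrHom rfl hc) ?_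
  have h2 : e'.iso.inv ≫ BrSev.bcTo P X.functionField = CohB1.ProjSpace.toSpec _ _ := by
    rw [Iso.inv_comp_eq, e'.comm]
  simp only [Iso.trans_hom, Iso.symm_hom, Category.assoc]
  refine ((congrArg (fun q => _ ≫ e.iso.hom ≫ e'.iso.inv ≫ q) ((pullback.lift_snd _ _ _).trans (Category.comp_id _))).trans
    ?_)
  refine (congrArg (fun q => _ ≫ e.iso.hom ≫ q) h2).trans ?_
  refine (congrArg (fun q => _ ≫ q) e.comm).trans ?_
  exact (pullback.lift_snd _ _ _).trans (Category.comp_id _)

/-- The final chain. -/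
theorem stably_birational_pair {A : Type u} [Ring A] [Algebra k A] [Algebra.IsCentral k A] [IsSimpleRing A]
    [Module.Finite k A] {B : Type u} [Ring B] [Algebra k B] [Algebra.IsCentral k B] [IsSimpleRing B]
    [Module.Finite k B] {n m : ℕ} (hn : 0 < n) (hm : 0 < m) (hA : Module.finrank k A = n * n)
    (hB : Module.finrank k B = m * m) {i j : ℕ} (hi : CSALib.cl k B = CSALib.cl k A ^ i)
    (hj : CSALib.cl k A = CSALib.cl k B ^ j) {X Y : Scheme.{u}}
    (f : X ⟶ S) (g : Y ⟶ S) (hX : BrSev.IsSBOf k A (n * n - n) f) (hY : BrSev.IsSBOf k B (m * m - m) g) :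
    ∃ a b : ℕ, 0 < a ∧ 0 < b ∧ Scheme.BirationalOver
      (pullback.fst f (CohB1.ProjSpace.toSpec a k) ≫ f) (pullback.fst g (CohB1.ProjSpace.toSpec b k) ≫ g) := by
  refine ⟨m, n, hm, hn, ?_⟩
  have key : ∀ {Z : Scheme.{u}} (z : Z ⟶ S) (a : ℕ), Scheme.BirationalOver
      (pullback.fst z (CohB1.ProjSpace.toSpec (a + 1) k) ≫ z)
      (pullback.fst (pullback.fst z (CohB1.ProjSpace.toSpec a k) ≫ z) (aff k 1) ≫
        pullback.fst z (CohB1.ProjSpace.toSpec a k) ≫ z) := fun z a =>
    (birationalOver_prod_left z ((affine_birationalOver_projSpace k (a + 1)).symm.trans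
      (affine_prod k a 1).symm)).trans ((birationalOver_assoc z (aff k a) (aff k 1)).symm.trans
        (birationalOver_baseChange (birationalOver_prod_left z (affine_birationalOver_projSpace k a)) (aff k 1)))
  have h1 := stably_birational hn hm hA hB hi f g hX hY
  have h2 := stably_birational hm hn hB hA hj g f hY hX
  have hsw : Scheme.BirationalOver (pullback.fst f g ≫ f) (pullback.fst g f ≫ g) :=
    birationalOver_of_iso (pullbackSymmetry f g) (by rw [pullbackSymmetry_hom_comp_fst_assoc, pullback.condition])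
  have h3 := birationalOver_baseChange (h1.symm.trans (hsw.trans h2)) (aff k 1)
  have k1 := key f (m - 1)
  have k2 := key g (n - 1)
  rw [Nat.sub_add_cancel hm] at k1
  rw [Nat.sub_add_cancel hn] at k2
  exact k1.trans (h3.trans k2.symm)

end SBStable
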