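import Groth.Agent.S9681
import Mathlib

/-! Birationality of products. -/

set_option autoImplicit false
set_option linter.style.haveILetI false
universe u

noncomputable section

open CategoryTheory CategoryTheory.Limits AlgebraicGeometry TopologicalSpace

namespace SBStable

variable {S : Scheme.{u}}

/-- A dense open immersion over the base is birational. -/
theorem birationalOver_of_openImmersion {U X : Scheme.{u}} (j : U ⟶ X) [IsOpenImmersion j]
    (hj : DenseRange j) (sX : X ⟶ S) : Scheme.BirationalOver (j ≫ sX) sX :=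
  ⟨{ source := ⊤
     dense_source := dense_univ
     target := j.opensRange
     dense_target := hj
     iso := U.topIso ≪≫ j.isoOpensRange }, by simp [Scheme.PartialIso.IsOver]⟩

theorem birationalOver_of_iso {X Y : Scheme.{u}} (e : X ≅ Y) {sX : X ⟶ S} {sY : Y ⟶ S}
    (h : e.hom ≫ sY = sX) : Scheme.BirationalOver sX sY :=
  h ▸ birationalOver_of_openImmersion e.hom (Scheme.Hom.surjective e.hom).denseRange sY

/-- Birationality is preserved by flat finitely presented base change. -/
theorem birationalOver_baseChange {T X Y : Scheme.{u}} {sX : X ⟶ S} {sY : Y ⟶ S}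
    (h : Scheme.BirationalOver sX sY) (t : T ⟶ S) [UniversallyOpen t] :
    Scheme.BirationalOver (pullback.fst sX t ≫ sX) (pullback.fst sY t ≫ sY) := by
  obtain ⟨P, hP⟩ := h
  have hsrc : ∀ {W : Scheme.{u}} (sW : W ⟶ S) (U : W.Opens), Dense (U : Set W) →
      ∃ j : pullback (U.ι ≫ sW) t ⟶ pullback sW t, IsOpenImmersion j ∧ DenseRange j ∧
        j ≫ pullback.fst sW t = pullback.fst _ _ ≫ U.ι := fun {W} sW U hU => by
    refine ⟨pullback.map _ _ _ _ U.ι (𝟙 _) (𝟙 _) (by simp) (by simp), inferInstance, ?_, pullback.lift_fst _ _ _⟩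
    rw [DenseRange, Scheme.Pullback.range_map, Scheme.Opens.range_ι]
    haveI : UniversallyOpen (pullback.fst sW t) := inferInstance
    have h2 : (pullback.snd sW t) ⁻¹' Set.range (𝟙 T : T ⟶ T) = Set.univ := by simp
    rw [h2, Set.inter_univ]
    exact hU.preimage (pullback.fst sW t).isOpenMap
  obtain ⟨j, hj, hjd, hjf⟩ := hsrc sX P.source P.dense_source
  obtain ⟨j', hj', hjd', hjf'⟩ := hsrc sY P.target P.dense_target
  refine (birationalOver_of_openImmersion j hjd _).symm.trans
    (Scheme.BirationalOver.trans ?_ (birationalOver_of_openImmersion j' hjd' _))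
  refine birationalOver_of_iso
    (asIso (pullback.map (P.source.ι ≫ sX) t (P.target.ι ≫ sY) t P.iso.hom (𝟙 _) (𝟙 _)
      (by simp only [Category.comp_id]; exact Eq.symm hP) (by simp))) ?_
  rw [reassoc_of% hjf, reassoc_of% hjf', asIso_hom, pullback.lift_fst_assoc, Category.assoc]
  exact congrArg (pullback.fst _ _ ≫ ·) hP

/-- A preimmersion is an isomorphism on residue fields. -/
theorem isIso_residueFieldMap {T Z : Scheme.{u}} (j : T ⟶ Z) [IsPreimmersion j] (x : T) :
    IsIso (j.residueFieldMap x) := by
  rw [ConcreteCategory.isIso_iff_bijective]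
  refine ⟨(j.residueFieldMap x).hom.injective, fun b => ?_⟩
  obtain ⟨b', rfl⟩ := IsLocalRing.residue_surjective b
  obtain ⟨a, rfl⟩ := j.stalkMap_surjective x b'
  exact ⟨Z.residue (j x) a, congr($(Scheme.residue_residueFieldMap j x) a)⟩

theorem exists_iso_residue {T Z : Scheme.{u}} (j : T ⟶ Z) [IsPreimmersion j] (x : T) (z : Z) (h : j x = z) :
    ∃ a : Spec (T.residueField x) ≅ Spec (Z.residueField z),
      a.hom ≫ Z.fromSpecResidueField z = T.fromSpecResidueField x ≫ j := by
  subst h
  haveI := isIso_residueFieldMap j x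
  exact ⟨asIso (Spec.map (j.residueFieldMap x)), j.SpecMap_residueFieldMap_fromSpecResidueField x⟩

/-- The residue field criterion in geometric form. -/
theorem birationalOver_of_residue {X Y : Scheme.{u}} [IsIntegral X] [IsIntegral Y] (sX : X ⟶ S) (sY : Y ⟶ S)
    [LocallyOfFiniteType sX] [LocallyOfFiniteType sY]
    (a : Spec (X.residueField (genericPoint X)) ≅ Spec (Y.residueField (genericPoint Y)))
    (ha : a.hom ≫ Y.fromSpecResidueField _ ≫ sY = X.fromSpecResidueField _ ≫ sX) :
    Scheme.BirationalOver sX sY := by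
  have hpt : ∀ p : Spec (X.residueField (genericPoint X)),
      sY (Y.fromSpecResidueField (genericPoint Y) (a.hom p)) = sX (X.fromSpecResidueField (genericPoint X) p) :=
    fun p => congr($ha p)
  have hs : sX (genericPoint X) = sY (genericPoint Y) := by
    have := hpt (Classical.arbitrary _)
    rwa [Scheme.fromSpecResidueField_apply, Scheme.fromSpecResidueField_apply, eq_comm] at this
  let ε : X.residueField (genericPoint X) ≅ Y.residueField (genericPoint Y) :=
    { hom := Spec.preimage a.inv
      inv := Spec.preimage a.hom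
      hom_inv_id := Spec.map_injective (by simp)
      inv_hom_id := Spec.map_injective (by simp) }
  refine (Groth.Agent.S9681.result sX sY).2 ⟨hs, ε, Spec.map_injective ?_⟩
  rw [← cancel_mono (S.fromSpecResidueField _), Spec.map_comp, Spec.map_comp, Category.assoc, Category.assoc,
    Scheme.Hom.SpecMap_residueFieldMap_fromSpecResidueField]
  have he : Spec.map (eqToHom (congrArg S.residueField hs)) ≫ S.fromSpecResidueField (sX (genericPoint X)) =
      S.fromSpecResidueField (sY (genericPoint Y)) := by
    generalize sY (genericPoint Y) = s at hs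
    subst hs
    simp
  rw [he, Scheme.Hom.SpecMap_residueFieldMap_fromSpecResidueField, ← ha, show Spec.map ε.hom = a.inv from Spec.map_preimage _,
    Iso.inv_hom_id_assoc]

variable {X W W' : Scheme.{u}} (f : X ⟶ S) (g : W ⟶ S) (g' : W' ⟶ S) [IsIntegral X]

/-- Products with a fixed scheme are birational as soon as the fibres over its generic point are isomorphic. -/
theorem birationalOver_of_generic [LocallyOfFiniteType f] [LocallyOfFiniteType g] [LocallyOfFiniteType g']
    [IsIntegral (pullback f g)] [IsIntegral (pullback f g')] [Surjective g] [Surjective g']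
    {T : Scheme.{u}} (ι : T ⟶ X) [IsPreimmersion ι] (hι : genericPoint X ∈ Set.range ι)
    (e : pullback g (ι ≫ f) ≅ pullback g' (ι ≫ f))
    (he : e.hom ≫ pullback.snd _ _ = pullback.snd _ _) :
    Scheme.BirationalOver (pullback.fst f g ≫ f) (pullback.fst f g' ≫ f) := by
  have key : ∀ {V : Scheme.{u}} (v : V ⟶ S) [Surjective v] [IsIntegral (pullback f v)],
      ∃ (j : pullback v (ι ≫ f) ⟶ pullback f v), IsPreimmersion j ∧
        j ≫ pullback.fst f v = pullback.snd _ _ ≫ ι ∧ ∃ z, j z = genericPoint (pullback f v : Scheme.{u}) ∧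
          ∀ z', z ⤳ z' := fun {V} v _ _ => by
    let j : pullback v (ι ≫ f) ⟶ pullback f v :=
      pullback.lift (pullback.snd _ _ ≫ ι) (pullback.fst _ _) (by rw [Category.assoc]; exact pullback.condition.symm)
    have h1 : j ≫ pullback.fst f v = pullback.snd _ _ ≫ ι := pullback.lift_fst _ _ _
    have h2 : j ≫ pullback.snd f v = pullback.fst _ _ := pullback.lift_snd _ _ _
    have sq : IsPullback (pullback.snd v (ι ≫ f)) j ι (pullback.fst f v) := by
      refine IsPullback.of_bot ?_ h1.symm (IsPullback.of_hasPullback f v).flip.flip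
      rw [h2]
      exact (IsPullback.of_hasPullback v (ι ≫ f)).flip
    haveI hj : IsPreimmersion j := MorphismProperty.of_isPullback sq inferInstance
    refine ⟨j, hj, h1, ?_⟩
    let ξ := genericPoint (pullback f v : Scheme.{u})
    have hξ : pullback.fst f v ξ = genericPoint X := by
      refine ((genericPoint_spec (pullback f v : Scheme.{u})).image (pullback.fst f v).continuous).eq ?_
      rw [Set.image_univ, (pullback.fst f v).surjective.range_eq, closure_univ]
      exact genericPoint_spec X
    have hr : ξ ∈ Set.range j := by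
      rw [← sq.flip.isoPullback_hom_fst, Scheme.Hom.comp_base, TopCat.coe_comp, Set.range_comp,
        sq.flip.isoPullback.hom.surjective.range_eq, Set.image_univ, Scheme.Pullback.range_fst,
        Set.mem_preimage, hξ]
      exact hι
    obtain ⟨z, hz⟩ := hr
    exact ⟨z, hz, fun z' => j.isEmbedding.isInducing.specializes_iff.1 (hz ▸ genericPoint_specializes _)⟩
  obtain ⟨j, hj, hjf, z, hz, hzz⟩ := key g
  obtain ⟨j', hj', hjf', z', hz', hzz'⟩ := key g'
  have hez : e.hom z = z' :=
    (Specializes.antisymm (by
      have := (hzz (e.inv z')).map e.hom.continuous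
      rwa [← Scheme.Hom.comp_apply, e.inv_hom_id] at this) (hzz' _)).eq
  haveI : IsPreimmersion e.hom := inferInstance
  obtain ⟨a₁, ha₁⟩ := exists_iso_residue j z _ hz
  obtain ⟨a₂, ha₂⟩ := exists_iso_residue e.hom z z' hez
  obtain ⟨a₃, ha₃⟩ := exists_iso_residue j' z' _ hz'
  refine birationalOver_of_residue _ _ (a₁.symm ≪≫ a₂ ≪≫ a₃) ?_
  rw [← cancel_epi a₁.hom, reassoc_of% ha₁]
  simp only [Iso.trans_hom, Iso.symm_hom, Category.assoc, Iso.hom_inv_id_assoc]
  rw [reassoc_of% ha₃, reassoc_of% hjf', reassoc_of% ha₂, reassoc_of% he, reassoc_of% hjf]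

end SBStable
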